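import Groth.Agent.DimFormula.Trdeg
import Mathlib.RingTheory.Localization.AtPrime.Basic
import Mathlib.RingTheory.Polynomial.Basic
import Mathlib.Algebra.MvPolynomial.Equiv

/-!
# The dimension formula for one generator, assuming a catenary local ring
-/

set_option autoImplicit false

open Order

namespace Groth.Agent.H1AltFormula

universe u

open DimFormula

/-- Heights add up below a prime contained in a prime with catenary local ring. -/
theorem height_add_height_Ici {T : Type u} [CommRing T] [IsDomain T] [IsNoetherianRing T]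
    (M : Ideal T) [M.IsPrime] (T' : Type u) [CommRing T'] [Algebra T T'] [IsLocalization.AtPrime T' M]
    (hcat : CAlg.IsCatenary T') {Q P : PrimeSpectrum T} (h : Q ≤ P) (hPM : P.asIdeal ≤ M) :
    height Q + height (⟨P, h⟩ : ↥(Set.Ici Q)) = height P := by
  haveI : IsDomain T' := IsLocalization.isDomain_of_atPrime T' M
  haveI : IsNoetherianRing T' := IsLocalization.isNoetherianRing M.primeCompl T' inferInstance
  let c : PrimeSpectrum T' → PrimeSpectrum T := PrimeSpectrum.comap (algebraMap T T')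
  have hle : ∀ R R', c R ≤ c R' ↔ R ≤ R' := fun R R' => by
    refine ⟨fun hh => ?_, fun hh => Ideal.comap_mono hh⟩
    have := Ideal.map_mono (f := algebraMap T T') hh
    rwa [PrimeSpectrum.comap_asIdeal, PrimeSpectrum.comap_asIdeal, IsLocalization.map_under M.primeCompl,
      IsLocalization.map_under M.primeCompl] at this
  have hmono : StrictMono c := fun a b hab =>
    lt_of_le_of_ne ((hle a b).2 hab.le) fun e => hab.not_ge ((hle b a).1 e.ge)
  have hrange : ∀ R, R ≤ P → R ∈ Set.range c := fun R hR => by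
    rw [PrimeSpectrum.localization_comap_range T' M.primeCompl]
    refine Set.disjoint_left.2 ?_
    intro s hs hsR
    exact hs (hPM (hR hsR))
  obtain ⟨Q', hQ'⟩ := hrange Q h
  obtain ⟨P', hP'⟩ := hrange P le_rfl
  subst hQ' hP'
  have hQP : Q' ≤ P' := (hle _ _).1 h
  have h1 : ∀ a, a ≤ P' → height a = height (c a) := fun a ha => by
    refine le_antisymm (height_le_height_apply_of_strictMono _ hmono a) ?_
    refine height_le fun l hl => ?_
    choose g hg using fun i => hrange (l i) ((LTSeries.monotone l (Fin.le_last i)).trans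
      (by show l.last ≤ c P'; rw [hl]; exact (hle _ _).2 ha))
    let l' : LTSeries (PrimeSpectrum T') := LTSeries.mk l.length g fun i j hij => by
      have := l.strictMono hij
      rw [← hg i, ← hg j] at this
      exact lt_of_le_not_ge ((hle _ _).1 this.le) fun hh => this.not_ge ((hle _ _).2 hh)
    refine le_trans (le_of_eq rfl) (length_le_height (p := l') ?_)
    exact ((hle _ _).1 ((hg _).trans hl).le)
  have h2 : height (⟨P', hQP⟩ : ↥(Set.Ici Q')) = height (⟨c P', h⟩ : ↥(Set.Ici (c Q'))) := by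
    let g : ↥(Set.Iic (⟨P', hQP⟩ : ↥(Set.Ici Q'))) → ↥(Set.Iic (⟨c P', h⟩ : ↥(Set.Ici (c Q')))) :=
      fun R => ⟨⟨c R.1.1, (hle _ _).2 R.1.2⟩, (hle _ _).2 R.2⟩
    apply WithBot.coe_injective
    rw [height_eq_krullDim_Iic, height_eq_krullDim_Iic]
    refine Order.krullDim_eq_of_orderIso ⟨Equiv.ofBijective g ⟨fun R R' hh => ?_, fun b => ?_⟩, ?_⟩
    · have he : c R.1.1 = c R'.1.1 := congrArg (fun z : ↥(Set.Iic (⟨c P', h⟩ : ↥(Set.Ici (c Q')))) => z.1.1) hh
      exact Subtype.ext (Subtype.ext (le_antisymm ((hle _ _).1 he.le) ((hle _ _).1 he.ge)))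
    · obtain ⟨R, hR⟩ := hrange b.1.1 b.2
      refine ⟨⟨⟨R, (hle _ _).1 (hR ▸ b.1.2)⟩, (hle R P').1 (hR ▸ b.2)⟩, Subtype.ext (Subtype.ext hR)⟩
    · intro R R'
      exact hle _ _
  rw [← h1 Q' hQP, ← h1 P' le_rfl, ← h2]
  obtain ⟨n, hn⟩ := ENat.ne_top_iff_exists.1 (height_ne_top P')
  refine height_add_height_eq hcat.2 (fun a b ha hb => ?_) hQP hn.symm
  have hbot : ∀ a : PrimeSpectrum T', height a = 0 → a = ⟨⊥, Ideal.isPrime_bot⟩ := fun a ha =>
    le_antisymm (height_eq_zero.1 ha (show ⊥ ≤ a.asIdeal from bot_le)) (show ⊥ ≤ a.asIdeal from bot_le)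
  rw [hbot a ha, hbot b hb]

/-- The dimension formula for an algebra generated by one element. -/
theorem trdeg_formula_one (A : Type u) {B : Type u} [CommRing A] [IsDomain A] [IsNoetherianRing A]
    [CommRing B] [IsDomain B] [Algebra A B] [FaithfulSMul A B]
    (π : MvPolynomial (Fin 1) A →ₐ[A] B) (hπ : Function.Surjective π) (p : Ideal A) [p.IsPrime]
    (q : Ideal B) [q.IsPrime] [q.LiesOver p]
    (M : Ideal (MvPolynomial (Fin 1) A)) [M.IsPrime] (hqM : q.comap π.toRingHom ≤ M)
    (T' : Type u) [CommRing T'] [Algebra (MvPolynomial (Fin 1) A) T'] [IsLocalization.AtPrime T' M]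
    (hcat : CAlg.IsCatenary T') :
    (q.height : Cardinal.{u}) + Algebra.trdeg (A ⧸ p) (B ⧸ q) =
      (p.height : Cardinal.{u}) + Algebra.trdeg A B := by
  haveI : Algebra.FiniteType A B := Algebra.FiniteType.of_surjective π hπ
  obtain rfl : p = q.under A := Ideal.LiesOver.over (P := q) (p := p)
  let P : PrimeSpectrum B := ⟨q, inferInstance⟩
  let Q : PrimeSpectrum (MvPolynomial (Fin 1) A) := PrimeSpectrum.comap π.toRingHom ⟨⊥, Ideal.isPrime_bot⟩
  let P₀ : PrimeSpectrum (MvPolynomial (Fin 1) A) := PrimeSpectrum.comap π.toRingHom P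
  have hQP : Q ≤ P₀ := Ideal.comap_mono bot_le
  have hover : ∀ R : PrimeSpectrum B, PrimeSpectrum.comap (algebraMap A (MvPolynomial (Fin 1) A))
      (PrimeSpectrum.comap π.toRingHom R) = PrimeSpectrum.comap (algebraMap A B) R := fun R => by
    rw [← PrimeSpectrum.comap_comp_apply, AlgHom.toRingHom_eq_coe, AlgHom.comp_algebraMap]
  have hQA : height (PrimeSpectrum.comap (algebraMap A (MvPolynomial (Fin 1) A)) Q) = 0 := by
    rw [hover, show PrimeSpectrum.comap (algebraMap A B) ⟨⊥, Ideal.isPrime_bot⟩ = ⟨⊥, Ideal.isPrime_bot⟩ from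
      PrimeSpectrum.ext ((RingHom.ker_eq_comap_bot _).symm.trans
        ((RingHom.injective_iff_ker_eq_bot _).1 (FaithfulSMul.algebraMap_injective A B))), height_bot_eq_zero]
  have e1 := height_add_fd_mvPolynomial A Q
  rw [hQA, zero_add, show fd A Q.asIdeal = fd A (⊥ : Ideal B) from fd_comap_of_surjective A π hπ ⊥] at e1
  have e2 := height_add_fd_mvPolynomial A P₀
  rw [show fd A P₀.asIdeal = fd A P.asIdeal from fd_comap_of_surjective A π hπ P.asIdeal, hover] at e2
  have hht : height (⟨P₀, hQP⟩ : ↥(Set.Ici Q)) = height P :=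
    height_Ici_comap π.toRingHom hπ Q (RingHom.ker_eq_comap_bot _) P hQP
  have heq := height_add_height_Ici M T' hcat hQP hqM
  rw [hht] at heq
  have hfin : height Q ≠ ⊤ := height_ne_top Q
  have key : height P + (fd A P.asIdeal : ℕ∞) =
      height (PrimeSpectrum.comap (algebraMap A B) P) + (fd A (⊥ : Ideal B) : ℕ∞) := by
    refine (ENat.add_left_injective_of_ne_top hfin) ?_
    show height P + (fd A P.asIdeal : ℕ∞) + height Q =
      height (PrimeSpectrum.comap (algebraMap A B) P) + (fd A (⊥ : Ideal B) : ℕ∞) + height Q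
    rw [add_right_comm, add_comm (height P), heq, e2, add_assoc, add_comm _ (height Q), e1]
  have e4 : (fd A q : Cardinal.{u}) = Algebra.trdeg (A ⧸ q.under A) (B ⧸ q) :=
    fd_eq_trdeg A (q.under A) (Ideal.Quotient.mkₐ A q) Ideal.Quotient.mk_surjective q Ideal.mk_ker rfl
  have e5 : q.height = height P := PrimeSpectrum.height_eq_orderHeight P
  have e6 : (q.under A).height = height (PrimeSpectrum.comap (algebraMap A B) P) :=
    PrimeSpectrum.height_eq_orderHeight (PrimeSpectrum.comap (algebraMap A B) P)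
  rw [← e4, ← fd_bot_eq_trdeg A (B := B), e5, e6, ← Cardinal.ofENat_nat, ← Cardinal.ofENat_nat,
    ← Cardinal.ofENat_add, ← Cardinal.ofENat_add, key]

end Groth.Agent.H1AltFormula
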